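import Cfsg.Agent.H993.RIM.OMinus
import Cfsg.Agent.H568.RIM.Three
import Cfsg.Agent.H521.RIM.ThreeB

/-!
# S4816: the row of `Ω⁻_{2m}(q)`, `q` odd, cross characteristic: the end (helper993)
-/

set_option autoImplicit false
set_option linter.unusedSectionVars false

namespace Cfsg.Agent.H993.RIM

open Cfsg Cfsg.Agent.Characters CoxeterSystem Cfsg.Agent.ChevalleyStructure.CoxeterGeom Cfsg.Agent.Tits.Roots
  Cfsg.Agent.Tits.Core Cfsg.Agent.Tits.Exchange Cfsg.Agent.Nodes.Reps Cfsg.Agent.Nodes.BNOf Cfsg.Agent.Nodes.StabComb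
  Cfsg.Agent.Nodes.Bruhat Cfsg.Agent.Nodes.OppDec Cfsg.Agent.Nodes.LeviDec Cfsg.Agent.H53.HC
open Cfsg.Agent.H665.RIM (NB NBall)
open Cfsg.Agent.H325.RIM Cfsg.Agent.OrdDiv Cfsg.Agent.H436
open Cfsg.Agent.Nodes.TypeC (isCartan)
open scoped MatrixGroups

theorem gcd_four_eq {q : ℕ} (hq : Odd q) : Nat.gcd 4 (q ^ 4 + 1) = 2 := by
  have h1 : q ^ 4 % 4 = 1 := by
    obtain ⟨c, rfl⟩ := hq
    have : (2 * c + 1) ^ 4 = 4 * (4 * c ^ 4 + 8 * c ^ 3 + 6 * c ^ 2 + 2 * c) + 1 := by ring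
    rw [this]
    omega
  have h2 : (q ^ 4 + 1) % 4 = 2 := by omega
  rw [Nat.gcd_rec, h2]
  rfl

/-- the missing case -/
theorem missMinus {p : ℕ} (hp : p.Prime) : MissMinus p := by
  intro F _ _ a b hab hq hq3 h1 h2 k hk2 hkd
  rw [gcd_four_eq hq] at hkd
  obtain rfl : k = 2 := le_antisymm (Nat.le_of_dvd (by norm_num) hkd) hk2
  obtain ⟨r, hrc⟩ := CharP.exists F
  have hrp : Fact r.Prime := ⟨CharP.char_is_prime F r⟩
  have hr2 : r ≠ 2 := by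
    rintro rfl
    obtain ⟨n, -, hn⟩ := FiniteField.card F 2
    rw [hn] at hq
    exact hq.not_two_dvd_nat (dvd_pow_self 2 n.pos.ne')
  obtain ⟨T, n, X, R, hW, hG, hy, hz, hT, hN, hcm⟩ := H568.RIM.dat_minus (r := r) hab
  rw [Nat.card_eq_fintype_card (α := F)] at hz
  simp only [Nat.card_eq_fintype_card (α := F)] at hy
  exact H521.RIM.Three.nb_three R hG hy hz hq3 hT hN hcm hp h1 h2 hr2

/-- **The row of `Ω⁻_{2m}(q)`**, `q` odd, `p ∤ q`, apart from `(Ω⁻_8(3), 13)`. -/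
theorem ominus : ∀ p m q : ℕ, p.Prime → p ≠ 2 → ¬ p ∣ q → Odd q → ¬ (m = 4 ∧ q = 3 ∧ p = 13) → NBRow p (.ominus m q) :=
  ominus_of fun _ hp _ => missMinus hp

end Cfsg.Agent.H993.RIM
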