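import Cfsg.Agent.Mrg.Omega.ML.Ex.Typ.List
import Cfsg.Agent.H554.SizeC
import Cfsg.Agent.H62.OrthModel
import Cfsg.Agent.H807.CubePar

/-!
# S4816: root group data of `Ω⁻_{2m+2}(q)` and `Ω_{2m+1}(q)` with the orders of the root groups (helper993)

* `exists_rgd_minus` : type `B_m`, `|X_i| = q` for `i + 1 < m`, `|X_{m-1}| = q ^ 2`;
* `exists_rgd_odd` : type `B_m`, `|X_i| = q`.
-/

set_option autoImplicit false
set_option linter.unusedSectionVars false

namespace Cfsg.Agent.H993.RIM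

open Cfsg
open CoxeterSystem Cfsg.Agent.ChevalleyStructure.CoxeterGeom Cfsg.Agent.Tits.Roots Cfsg.Agent.Tits.Core
  Cfsg.Agent.Nodes.Comb Cfsg.Agent.Nodes.Reps Cfsg.Agent.Nodes.BNOf Cfsg.Agent.FixBN
  Cfsg.Agent.Nodes.RGDLib Cfsg.Agent.Nodes.RGDChev Cfsg.Agent.LieRecognition.BNCox
  Cfsg.Agent.TitsThree Cfsg.Agent.Nodes.LeviDec Cfsg.Agent.Nodes.StabComb Cfsg.Agent.Nodes.Bruhat Cfsg.Agent.Nodes.OppDec
open QuadraticMap
open Cfsg.Agent.LieClassical Cfsg.Agent.LieClassical.OrthCore Cfsg.Agent.LieClassical.OrthTrans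
open Cfsg.Agent.LieClassical.OrthSimple Cfsg.Agent.LieClassical.OrthFinite
open Cfsg.Agent.LieClassical.OrthForms
open Cfsg.Agent.TitsThree.KSideO Cfsg.Agent.TitsThree.StdData
open Cfsg.Agent.Nodes Cfsg.Agent.Nodes.WittAll Cfsg.Agent.Nodes.WittU Cfsg.Agent.Nodes.WittInst
  Cfsg.Agent.TitsThree.Siegel Cfsg.Agent.TitsThree.SiegelGen
  Cfsg.Agent.TitsThree.WittFrame Cfsg.Agent.TitsThree.WBridge Cfsg.Agent.TitsThree.WittWeyl
  Cfsg.Agent.TitsThree.FrameCN

section TypeC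

variable {F : Type*} [Field F] {V : Type*} [AddCommGroup V] [Module F V] {H : HForm F V}

/-- the datum of a model with the orders of the simple root groups -/
theorem data_C {n : ℕ} {Fr : Frame H (Fin n)} {K : Type*} [Group K] (M : Model Fr K) {p : ℕ}
    (hA : AmbT Fr p M.I) [Finite V] [Fact p.Prime] [CharP F p] {p0 : Fr.Adm} (hp0 : p0.c ≠ 0)
    (hn : 0 < n) : ∃ (T : Subgroup K) (nn : Fin n → K) (X : (Fin n → ℤ) → Subgroup K),
      RGD (CoxeterMatrix.B n).toCoxeterSystem (Nodes.TypeC.isCartan n) p T nn X ∧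
      GG (CoxeterMatrix.B n).toCoxeterSystem (Nodes.TypeC.isCartan n) T X = ⊤ ∧
      (∀ i : Fin n, (i : ℕ) + 1 < n → Nat.card (X (sr i)) = Nat.card F) ∧
      (∀ i : Fin n, (i : ℕ) + 1 = n → Nat.card (X (sr i)) = Nat.card Fr.Adm) := by
  refine ⟨_, _, _, rgdC_model M hA hp0 _, H807.CubePar.GG_eq_top (WittModel.G1_eq_top _ hn _), ?_, ?_⟩
  · intro i hi
    exact H807.CubePar.card_short M hA hp0 hi
  · intro i hi
    have hnx : Nodes.TypeC.nx i = (i, true) := by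
      unfold Nodes.TypeC.nx
      rw [dif_neg (by omega)]
    refine H554.SizeC.card_long M hA hp0 (a := (i, true)) ?_
    have h1 := Nodes.TypeC.ee_sr i
    rw [h1]
    unfold Nodes.TypeC.bt
    rw [hnx]

end TypeC

variable {F : Type*} [Field F] {m : ℕ}

/-- **`PΩ⁻_{2m+2}(F)`** -/
theorem exists_rgd_minus [Finite F] {a b : F} (hab : ∀ z₁ z₂ : F, z₁ ^ 2 + a * z₁ * z₂ + b * z₂ ^ 2 = 0 → z₁ = 0 ∧ z₂ = 0)
    (hm : 2 ≤ m) {p : ℕ} [Fact p.Prime] [CharP F p] :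
    ∃ (T : Subgroup (Cfsg.POmega F (Cfsg.quadFormMinus m F a b))) (nn : Fin m → Cfsg.POmega F (Cfsg.quadFormMinus m F a b))
      (X : (Fin m → ℤ) → Subgroup (Cfsg.POmega F (Cfsg.quadFormMinus m F a b))),
      RGD (CoxeterMatrix.B m).toCoxeterSystem (Nodes.TypeC.isCartan m) p T nn X ∧
      GG (CoxeterMatrix.B m).toCoxeterSystem (Nodes.TypeC.isCartan m) T X = ⊤ ∧
      (∀ i : Fin m, (i : ℕ) + 1 < m → Nat.card (X (sr i)) = Nat.card F) ∧
      (∀ i : Fin m, (i : ℕ) + 1 = m → Nat.card (X (sr i)) = Nat.card F ^ 2) := by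
  rw [← coe_minusForm]
  have hG : Good (minusForm m F a b) := by
    apply good_of_finite (nondeg_minusForm m F a b hab)
    rw [Module.finrank_fintype_fun_eq_card, Fintype.card_sum, Fintype.card_sum, Fintype.card_fin,
      Fintype.card_fin]
    omega
  have hp : ((embMinus m F a b hab).ngt ⟨(1, 0), -nf a b (1, 0), rfl⟩).c ≠ 0 := by
    change (1 : F)⁻¹ * (-nf a b (1, 0)) ≠ 0
    simp [nf]
  have hA : AmbT (toFrame (wminus m F a b hab)) p (E (minusForm m F a b)) := by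
    by_cases h2 : (2 : F) = 0
    · have hp2 : p = 2 := by
        have h3 : CharP F 2 := CharTwo.of_one_ne_zero_of_two_eq_zero one_ne_zero h2
        exact CharP.eq F ‹CharP F p› h3
      subst hp2
      exact ambT_O _ fun g hg hg2 hb => fixp_minus a b hab h2 hm hG hg hg2 hb
    · exact AmbT.of_amb (amb_O_of_two _ h2) p
  obtain ⟨T, nn, X, R, hGG, h1, h2⟩ := data_C (model (wminus m F a b hab) hG ⟨_, hp⟩) hA hp (by omega)
  refine ⟨T, nn, X, R, hGG, h1, fun i hi => (h2 i hi).trans ?_⟩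
  rw [H554.SizeC.card_adm_O, H62.OrthModel.card_V0_minus]

end Cfsg.Agent.H993.RIM
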