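import Cfsg.Agent.H643.RIM.Wrap
import Cfsg.Agent.H643.RIM.WRev
import Cfsg.Agent.H491.RIM.Chain
import Cfsg.Agent.H218.SdC

/-!
# S4816: the main case for the groups with a root group datum of type `B_m` (helper993)

`nb_main_B` : `J = {j | j + 1 ≠ m}` (`SL_m(q)`), `p ∣ |S : P_J| ∏_{i < m - 1} (q^(i+1) - 1)`.
-/

set_option autoImplicit false
set_option linter.unusedSectionVars false

open scoped ComplexConjugate Pointwise

namespace Cfsg.Agent.H993.RIM

open Cfsg Cfsg.Agent.Characters CoxeterSystem Cfsg.Agent.ChevalleyStructure.CoxeterGeom Cfsg.Agent.Tits.Roots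
  Cfsg.Agent.Tits.Core Cfsg.Agent.Tits.Exchange Cfsg.Agent.Nodes.Reps Cfsg.Agent.Nodes.BNOf Cfsg.Agent.Nodes.StabComb
  Cfsg.Agent.Nodes.Bruhat Cfsg.Agent.Nodes.OppDec Cfsg.Agent.Nodes.LeviDec Cfsg.Agent.Nodes.RGDLift Cfsg.Agent.H53.HC
  Cfsg.Agent.OddOrderCharacters.IndRes
open Cfsg.Agent.LieRecognition.BNCox (cA cA_apply)
open Cfsg.Agent.H665.RIM (NB)
open Cfsg.Agent.H643.RIM (nb_of_lift charDegree_cast OneChain)

universe u

/-- the chain of the first `m - 1` nodes -/
def kB (m : ℕ) : Fin (m - 1) ↪ Fin m := (Fin.castLEEmb (Nat.sub_le m 1))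

theorem kB_val {m : ℕ} (i : Fin (m - 1)) : (kB m i : ℕ) = i := rfl

theorem range_kB (m : ℕ) : Set.range (kB m) = {j : Fin m | (j : ℕ) + 1 ≠ m} := by
  ext j
  constructor
  · rintro ⟨i, rfl⟩
    have := i.2
    change (i : ℕ) + 1 ≠ m
    omega
  · intro hj
    have h1 := j.2
    have h2 : (j : ℕ) + 1 ≠ m := hj
    exact ⟨⟨j, by omega⟩, Fin.ext rfl⟩

theorem B_apply {m : ℕ} (a b : Fin m) : CoxeterMatrix.B m a b = if (a : ℕ) = b then 1 else
    if (a : ℕ) = m - 1 ∧ (b : ℕ) = m - 2 ∨ (b : ℕ) = m - 1 ∧ (a : ℕ) = m - 2 then 4 else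
    if (b : ℕ) + 1 = a ∨ (a : ℕ) + 1 = b then 3 else 2 := by
  by_cases h : a = b
  · subst h
    rw [if_pos rfl]
    exact CoxeterMatrix.diagonal _ a
  · rw [if_neg fun e => h (Fin.ext e)]
    show (if a = b then 1 else _) = _
    rw [if_neg h]

theorem M_kB {m : ℕ} (i j : Fin (m - 1)) : CoxeterMatrix.B m (kB m i) (kB m j) = cA (m - 1) i j := by
  have h1 := i.2
  have h2 := j.2
  rw [cA_apply, B_apply, kB_val, kB_val]
  unfold Cfsg.Agent.LieRecognition.CoxClass.mA
  split_ifs <;> first | rfl | omega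

/-- the chain of `J` -/
theorem oneChain_kB {m : ℕ} (hm : 3 ≤ m) : OneChain (CoxeterMatrix.B m) (Set.range (kB m)) (kB m) := by
  refine OneChain.of_card (kB m) (fun i => ⟨i, rfl⟩) M_kB (fun a ha h => absurd ha h) ?_
  rw [Set.sdiff_self]
  have : Nat.card ↥(∅ : Set (Fin m)) = 0 := Nat.card_of_isEmpty
  rw [this]
  omega

/-- `-1` -/
theorem exists_neg (m : ℕ) {W : Type*} [Group W] (cs : CoxeterSystem (CoxeterMatrix.B m) W) :
    ∃ w₀ : W, ∀ x, rep cs (Nodes.TypeC.isCartan m) w₀ x = -x := by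
  obtain ⟨ω, hω⟩ := H218.SdC.exists_neg_word m
  exact ⟨_, H218.SdC.rep_neg cs hω⟩

/-- **The chain is reversed**, every Cartan matrix of type `B_m`. -/
theorem reverse_B {m : ℕ} (hm : 3 ≤ m) {W : Type*} [Group W] [Finite W]
    {cs : CoxeterSystem (CoxeterMatrix.B m) W} {A : Fin m → Fin m → ℤ} {h : IsCartan (CoxeterMatrix.B m) A} {w : W}
    (hw : Perm cs h (Set.range (kB m)) w) (hwJ : w ∉ WJ cs (Set.range (kB m))) (i : Fin (m - 1)) :
    rep cs h w (sr (kB m i)) = sr (kB m i.rev) := by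
  obtain ⟨a0, ha0⟩ : ∃ a : Fin m, (a : ℕ) = m - 2 := ⟨⟨m - 2, by omega⟩, rfl⟩
  obtain ⟨b0, hb0⟩ : ∃ a : Fin m, (a : ℕ) = m - 1 := ⟨⟨m - 1, by omega⟩, rfl⟩
  have hJ : ∀ i : Fin m, i ∈ Set.range (kB m) ↔ i ≠ b0 := by
    intro i
    rw [range_kB]
    constructor
    · intro hi e
      apply hi
      rw [e]
      omega
    · intro hi e
      apply hi
      apply Fin.ext
      have e' : (i : ℕ) + 1 = m := e
      omega
  have hBab : CoxeterMatrix.B m a0 b0 = 4 := by
    rw [B_apply]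
    rw [if_neg (by omega), if_pos (Or.inr ⟨hb0, ha0⟩)]
  have hne : a0 ≠ b0 := by
    intro e
    have := congrArg Fin.val e
    omega
  -- the off-diagonal entries
  have hent : ∀ a b : Fin m, (a : ℕ) + 1 = b → (b : ℕ) + 1 < m → A a b = -1 ∧ A b a = -1 := by
    intro a b h1 h2
    have h3 : CoxeterMatrix.B m a b = 3 := by
      rw [B_apply]
      split_ifs <;> first | rfl | omega
    have hab : a ≠ b := fun e => by rw [e] at h1; omega
    rcases h.rel a b hab with h4 | h4 | h4 | h4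
    · rw [h3] at h4; exact absurd h4.1 (by norm_num)
    · exact h4.2
    · rw [h3] at h4; exact absurd h4.1 (by norm_num)
    · rw [h3] at h4; exact absurd h4.1 (by norm_num)
  have hzero : ∀ a b : Fin m, (a : ℕ) + 1 < b → A a b = 0 ∧ A b a = 0 := by
    intro a b h1
    have h3 : CoxeterMatrix.B m a b = 2 := by
      have := b.2
      rw [B_apply]
      split_ifs <;> first | rfl | omega
    have hab : a ≠ b := fun e => by rw [e] at h1; omega
    rcases h.rel a b hab with h4 | h4 | h4 | h4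
    · exact h4.2
    · rw [h3] at h4; exact absurd h4.1 (by norm_num)
    · rw [h3] at h4; exact absurd h4.1 (by norm_num)
    · rw [h3] at h4; exact absurd h4.1 (by norm_num)
  have hlast : A a0 b0 = -1 ∨ (A a0 b0 = -2 ∧ A b0 a0 = -1) := by
    rcases h.rel _ _ hne with h4 | h4 | h4 | h4
    · rw [hBab] at h4; exact absurd h4.1 (by norm_num)
    · rw [hBab] at h4; exact absurd h4.1 (by norm_num)
    · rcases h4.2 with h5 | h5
      · exact Or.inl h5.1
      · exact Or.inr h5
    · rw [hBab] at h4; exact absurd h4.1 (by norm_num)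
  rcases hlast with h1 | ⟨h1, h2⟩
  · refine H643.RIM.reverse (j := b0) hJ (oneChain_kB hm) ?_ hw hwJ i
    have hsum : ∑ i : Fin (m - 1), (((i : ℕ) : ℤ) + 1) * A (kB m i) b0 = -((m : ℤ) - 1) := by
      rw [Finset.sum_eq_single (⟨m - 2, by omega⟩ : Fin (m - 1))]
      · have e : kB m ⟨m - 2, by omega⟩ = a0 := Fin.ext ha0.symm
        rw [e, h1]
        push_cast [Nat.cast_sub (show 2 ≤ m by omega)]
        ring
      · intro b _ hb
        rw [(hzero (kB m b) b0 ?_).1, mul_zero]
        have hb' : (b : ℕ) ≠ m - 2 := fun e => hb (Fin.ext e)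
        have := b.2
        rw [kB_val]
        omega
      · intro hb
        exact absurd (Finset.mem_univ _) hb
    rw [hsum]
    rintro ⟨c, hc⟩
    have hm1 : (((m - 1 : ℕ) : ℤ) + 1) = m := by push_cast [Nat.cast_sub (show 1 ≤ m by omega)]; ring
    rw [hm1] at hc
    have h3 : (m : ℤ) ∣ 2 := ⟨c + 2, by linear_combination hc⟩
    have h4 := Int.le_of_dvd (by norm_num) h3
    omega
  · -- `A` is the matrix of type `C_m`
    have hA : A = Nodes.TypeC.A m := by
      funext a b
      rw [Nodes.TypeC.A_apply]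
      have ha := a.2
      have hb := b.2
      rcases Nat.lt_trichotomy (a : ℕ) b with hlt | heq | hgt
      · rw [if_neg (fun e => by rw [e] at hlt; omega)]
        by_cases h3 : (a : ℕ) + 1 = b
        · rw [if_pos h3]
          by_cases h4 : (b : ℕ) + 1 < m
          · rw [if_pos h4]; exact (hent a b h3 h4).1
          · rw [if_neg h4]
            have e1 : a = a0 := Fin.ext (by omega)
            have e2 : b = b0 := Fin.ext (by omega)
            rw [e1, e2]; exact h1
        · rw [if_neg h3, if_neg (by omega)]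
          exact (hzero a b (by omega)).1
      · have e : a = b := Fin.ext heq
        rw [if_pos e, e]
        exact h.diag b
      · rw [if_neg (fun e => by rw [e] at hgt; omega), if_neg (by omega)]
        by_cases h3 : (b : ℕ) + 1 = a
        · rw [if_pos h3]
          by_cases h4 : (a : ℕ) + 1 < m
          · exact (hent b a h3 h4).2
          · have e1 : b = a0 := Fin.ext (by omega)
            have e2 : a = b0 := Fin.ext (by omega)
            rw [e1, e2]; exact h2
        · rw [if_neg h3]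
          exact (hzero b a (by omega)).2
    subst hA
    obtain ⟨w₀, hw₀⟩ := exists_neg m cs
    exact H643.RIM.reverse_of_neg (j := b0) hJ (oneChain_kB hm) (by omega) hw₀ hw hwJ i

/-- **The main case.** -/
theorem nb_main_B {m : ℕ} (hm : 3 ≤ m) {W : Type*} {S : Type u} [Group W] [Finite W] [Group S] [Finite S]
    {cs : CoxeterSystem (CoxeterMatrix.B m) W} {A : Fin m → Fin m → ℤ} {h : IsCartan (CoxeterMatrix.B m) A}
    {r : ℕ} [Fact r.Prime] {T : Subgroup S} {n : Fin m → S} {X : (Fin m → ℤ) → Subgroup S} (R : RGD cs h r T n X)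
    (hG : GG cs h T X = ⊤) {q : ℕ} (hy : ∀ i : Fin m, (i : ℕ) + 1 < m → Nat.card (X (sr i)) = q) {p k : ℕ}
    (hk : ¬ r ∣ k) (hd : p ∣ (PJ cs h T X {j | (j : ℕ) + 1 ≠ m}).index *
      ∏ i ∈ Finset.range (m - 1), (q ^ (i + 1) - 1)) : NB p k S := by
  refine nb_of_lift R hG (Set.range (kB m)) hk ?_
  intro E _ _ T' n' X' R' Z hZc hZT hZk hE hG' hcard l hl
  have h0 : 0 < m - 1 := by omega
  obtain ⟨θ, hθ, h4, h5⟩ := H491.RIM.exists_chain_over R' (m := m - 1) (by omega) (kB m) M_kB (q := q) ⟨0, h0⟩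
    ((hcard _).trans (hy _ (by rw [kB_val]; change 0 + 1 < m; omega))) hZc l
  refine ⟨θ, hθ.irr, fun z hz hn => by rw [hθ.cen z hn hz, mul_comm], hθ.van, ?_, ?_⟩
  · intro w g hg hw hp
    exact h5 w g hg hp (reverse_B hm hp hw)
  · have h6 : charDegree θ = ∏ i ∈ Finset.range (m - 1), (q ^ (i + 1) - 1) := by
      have h7 := charDegree_cast hθ.irr
      rw [h4] at h7
      exact_mod_cast h7
    rw [h6, range_kB]
    exact hd

end Cfsg.Agent.H993.RIM
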