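import Cfsg.Agent.H993.RIM.MainB
import Cfsg.Agent.H993.RIM.Data
import Cfsg.Agent.H521.RIM.Arith
import Cfsg.Agent.H568.RIM.ExcB
import Cfsg.Agent.H325.RIM.Surv
import Cfsg.Agent.S2099

/-!
# S4816: the row of `Ω⁻_{2m}(q)`, `q` odd, cross characteristic (helper993)

* `nb_of_not_dvd` : no kernel of order `k`;
* `nb_minus` : `NB p k (PΩ⁻_{2l+2}(F))`, `3 ≤ l`, apart from `l = 3`, `q = 3`, `p = 13`, from the case `MissMinus`
  (`l = 3`, `q > 3` of order `3` modulo `p`);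
* `ominus_of` : the row, from the same.
-/

set_option autoImplicit false
set_option linter.unusedSectionVars false

namespace Cfsg.Agent.H993.RIM

open Cfsg Cfsg.Agent.Characters CoxeterSystem Cfsg.Agent.ChevalleyStructure.CoxeterGeom Cfsg.Agent.Tits.Roots
  Cfsg.Agent.Tits.Core Cfsg.Agent.Tits.Exchange Cfsg.Agent.Nodes.Reps Cfsg.Agent.Nodes.BNOf Cfsg.Agent.Nodes.StabComb
  Cfsg.Agent.Nodes.Bruhat Cfsg.Agent.Nodes.OppDec Cfsg.Agent.Nodes.LeviDec Cfsg.Agent.H53.HC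
open Cfsg.Agent.H665.RIM (NB NBall)
open Cfsg.Agent.H325.RIM Cfsg.Agent.OrdDiv Cfsg.Agent.H436

universe u v

/-- there is no perfect central extension with a kernel of order `k` -/
theorem nb_of_not_dvd {S : Type u} [Group S] {A : Type v} [CommGroup A] (hA : HasSchurMultiplier S A) {p k : ℕ}
    (h : ¬ k ∣ Nat.card A) : NB p k S := by
  intro E _ _ π hπ hc hp hk
  exfalso
  have hσ : IsStemExtension π := ⟨hπ, hc, by rw [hp]; exact le_top⟩
  obtain ⟨f, hf⟩ := H487.HasSchurMultiplier.exists_surj_ker hA hσ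
  have h1 := Subgroup.card_dvd_of_surjective f hf
  rw [hk] at h1
  exact h h1

theorem not_dvd_of_gcd {r q l k : ℕ} [hr : Fact r.Prime] (hrq : r ∣ q) (hq : Odd q)
    (hk : k ∣ Nat.gcd 4 (q ^ l + 1)) : ¬ r ∣ k := by
  intro h
  have h1 : r ∣ 4 := h.trans (hk.trans (Nat.gcd_dvd_left _ _))
  have h2 : r ∣ 2 := hr.out.dvd_of_dvd_pow (show r ∣ 2 ^ 2 from h1)
  have h3 : r = 2 := (Nat.prime_dvd_prime_iff_eq hr.out Nat.prime_two).1 h2
  rw [h3] at hrq
  have := hq.not_two_dvd_nat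
  exact this hrq

/-- the missing case -/
def MissMinus (p : ℕ) : Prop :=
  ∀ (F : Type) [Field F] [Fintype F] (a b : F), (∀ z₁ z₂ : F, z₁ ^ 2 + a * z₁ * z₂ + b * z₂ ^ 2 = 0 → z₁ = 0 ∧ z₂ = 0) →
    Odd (Fintype.card F) → 3 < Fintype.card F → p ∣ Fintype.card F ^ 3 - 1 → (∀ i, 1 ≤ i → i < 3 → ¬ p ∣ Fintype.card F ^ i - 1) →
    ∀ k, 2 ≤ k → k ∣ Nat.gcd 4 (Fintype.card F ^ 4 + 1) → NB.{0} p k (Cfsg.POmega F (Cfsg.quadFormMinus 3 F a b))

/-- **`PΩ⁻_{2l+2}(F)`** -/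
theorem nb_minus {p : ℕ} (hp : p.Prime) (H : MissMinus p) (F : Type) [Field F] [Fintype F] (a b : F)
    (hab : ∀ z₁ z₂ : F, z₁ ^ 2 + a * z₁ * z₂ + b * z₂ ^ 2 = 0 → z₁ = 0 ∧ z₂ = 0) (hq : Odd (Fintype.card F)) {l : ℕ}
    (hl : 3 ≤ l) (hex : ¬ (l = 3 ∧ Fintype.card F = 3 ∧ p = 13))
    (hd : p ∣ (Fintype.card F ^ (l + 1) + 1) * ∏ i ∈ Finset.range l, (Fintype.card F ^ (2 * (i + 1)) - 1))
    {k : ℕ} (hk2 : 2 ≤ k) : NB.{0} p k (Cfsg.POmega F (Cfsg.quadFormMinus l F a b)) := by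
  have hmult := Cfsg.Agent.S2099.result (F := F) rfl (l + 1) (by omega) a b hab
  rw [Nat.add_sub_cancel] at hmult
  by_cases hkd : k ∣ Nat.gcd 4 (Fintype.card F ^ (l + 1) + 1)
  swap
  · refine nb_of_not_dvd hmult ?_
    rwa [Nat.card_congr (Multiplicative.toAdd (α := ZMod _)), Nat.card_zmod]
  obtain ⟨r, hrc⟩ := CharP.exists F
  have hrp : Fact r.Prime := ⟨CharP.char_is_prime F r⟩
  have hrq : r ∣ Fintype.card F := by
    obtain ⟨n, -, hn⟩ := FiniteField.card F r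
    rw [hn]
    exact dvd_pow_self r n.pos.ne'
  have hrk : ¬ r ∣ k := not_dvd_of_gcd hrq hq hkd
  obtain ⟨T, n, X, R, hG, hy, hz⟩ := exists_rgd_minus (m := l) (p := r) hab (by omega)
  have hW : Finite (CoxeterMatrix.B l).Group := Nodes.TypeC.finite_W (CoxeterMatrix.B l).toCoxeterSystem
  rw [Nat.card_eq_fintype_card (α := F)] at hz
  simp only [Nat.card_eq_fintype_card (α := F)] at hy
  rcases H521.RIM.arith_minus R hG (q := Fintype.card F) Fintype.card_pos hl hy hz hp hd with h1 | ⟨h1, h2, h3, h4⟩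
  · exact nb_main_B hl R hG hy hrk h1
  · rcases Nat.lt_or_ge l 4 with h5 | h5
    · obtain rfl : l = 3 := by omega
      have h6 : Fintype.card F ≠ 3 := by
        intro h6
        rw [h6] at h2 h3
        have h7 := h3 1 le_rfl (by norm_num)
        have h8 : p ∣ 2 * 13 := h2
        rcases hp.dvd_mul.1 h8 with h9 | h9
        · exact h7 h9
        · exact hex ⟨rfl, h6, (Nat.prime_dvd_prime_iff_eq hp (by norm_num)).1 h9⟩
      have h7 : 1 < Fintype.card F := Fintype.one_lt_card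
      have h8 : Fintype.card F ≠ 2 := by
        intro h8
        rw [h8] at hq
        exact absurd hq (by decide)
      exact H F a b hab hq (by omega) h2 h3 k hk2 hkd
    · exact H568.RIM.nb_excB' h5 R hG hrk h4

/-- **The row.** -/
theorem ominus_of (H : ∀ p : ℕ, p.Prime → p ≠ 2 → MissMinus p) :
    ∀ p m q : ℕ, p.Prime → p ≠ 2 → ¬ p ∣ q → Odd q → ¬ (m = 4 ∧ q = 3 ∧ p = 13) → NBRow p (.ominus m q) := by
  intro p m q hp hp2 hpq hq hex S _ _ hS hdS k hk2 hpk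
  obtain ⟨F, _, _, a, b, hF, hab, ⟨e⟩⟩ := hS.real
  have hm : 4 ≤ m := hS.cond.1
  obtain ⟨l, rfl⟩ : ∃ l, m = l + 1 := ⟨m - 1, by omega⟩
  change S ≃* POmega F (quadFormMinus l F a b) at e
  have hd : p ∣ (q ^ (l + 1) + 1) * ∏ i ∈ Finset.range l, (q ^ (2 * (i + 1)) - 1) := by
    have h1 : den (.ominus (l + 1) q) * Nat.card S = q ^ ((l + 1) * (l + 1 - 1)) * ((q ^ (l + 1) + 1) * prB q (l + 1 - 1)) :=
      hS.eq
    have h2 : p ∣ q ^ ((l + 1) * (l + 1 - 1)) * ((q ^ (l + 1) + 1) * prB q (l + 1 - 1)) := by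
      rw [← h1]
      exact Dvd.dvd.mul_left hdS _
    rcases hp.dvd_mul.1 h2 with h3 | h3
    · exact absurd (hp.dvd_of_dvd_pow h3) hpq
    · rw [Nat.add_sub_cancel] at h3
      unfold prB at h3
      rwa [prod_list] at h3
  subst hF
  exact NB.congr e (nb_minus hp (H p hp hp2) F a b hab hq (by omega) (fun h => hex ⟨by omega, h.2.1, h.2.2⟩) hd hk2)

end Cfsg.Agent.H993.RIM
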